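import Cfsg.Agent.Lib.H04.Tw.TDefs
import Cfsg.Agent.Lib.H04.Chev.Tab.D4

/-! Generated tables of the twisted group of type D4. -/

set_option autoImplicit false
set_option maxRecDepth 100000

open Cfsg.Lie Cfsg.Agent.H04.Chev
open Cfsg.Agent.H04.Chev.TD4

namespace Cfsg.Agent.H04.Tw.TD4

/-- the graph map -/
noncomputable def G : GT := ⟨NT.nd (NT.nd (NT.nd (NT.nd (NT.nd (NT.lf 0x0) (NT.lf 0xf)) (NT.nd (NT.lf 0x4) (NT.lf 0x1a))) (NT.nd (NT.nd (NT.lf 0x7) (NT.lf 0x15)) (NT.nd (NT.lf 0x12) (NT.lf 0x0)))) (NT.nd (NT.nd (NT.nd (NT.lf 0x6) (NT.lf 0xd)) (NT.nd (NT.lf 0xb) (NT.lf 0x1b))) (NT.nd (NT.nd (NT.lf 0x3) (NT.lf 0x16)) (NT.nd (NT.lf 0xe) (NT.lf 0x0))))) (NT.nd (NT.nd (NT.nd (NT.nd (NT.lf 0x1) (NT.lf 0x14)) (NT.nd (NT.lf 0x9) (NT.lf 0x19))) (NT.nd (NT.nd (NT.lf 0xa)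 (NT.lf 0x11)) (NT.nd (NT.lf 0xc) (NT.lf 0x0)))) (NT.nd (NT.nd (NT.nd (NT.lf 0x2) (NT.lf 0x10)) (NT.nd (NT.lf 0x5) (NT.lf 0x18))) (NT.nd (NT.nd (NT.lf 0x8) (NT.lf 0x17)) (NT.nd (NT.lf 0x13) (NT.lf 0x0))))), NT.nd (NT.nd (NT.nd (NT.nd (NT.nd (NT.lf 0x0) (NT.lf 0x0)) (NT.nd (NT.lf 0x1) (NT.lf 0x0))) (NT.nd (NT.nd (NT.lf 0x1) (NT.lf 0x0)) (NT.nd (NT.lf 0x0) (NT.lf 0x0)))) (NT.nd (NT.nd (NT.nd (NT.lf 0x1) (NT.lf 0x0)) (NT.nd (NT.lf 0x0) (NT.lf 0x0))) (NT.nd (NT.nd (NT.lf 0x1) (NT.lf 0x0)) (NT.nd (NT.lf 0x0) (NT.lf 0x0))))) (NT.nd (NT.nd (NT.nd (NT.nd (NT.lf 0x0) (NT.lf 0x1)) (NT.nd (NT.lf 0x0) (NT.lf 0x0))) (NT.nd (NT.nd (NT.lf 0x0) (NT.lf 0x1)) (NT.nd (NT.lf 0x0) (NT.lf 0x0)))) (NT.nd (NT.nd (NT.nd (NT.lf 0x0) (NT.lf 0x1)) (NT.nd (NT.lf 0x0) (NT.lf 0x0))) (NT.nd (NT.nd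 (NT.lf 0x0) (NT.lf 0x0)) (NT.nd (NT.lf 0x1) (NT.lf 0x0)))))⟩
/-- the classes of roots -/
noncomputable def clT : NT := NT.nd (NT.nd (NT.nd (NT.nd (NT.nd (NT.lf 0x0) (NT.lf 0x2)) (NT.nd (NT.lf 0x0) (NT.lf 0x0))) (NT.nd (NT.nd (NT.lf 0x0) (NT.lf 0x3)) (NT.nd (NT.lf 0x1) (NT.lf 0x0)))) (NT.nd (NT.nd (NT.nd (NT.lf 0x0) (NT.lf 0x1)) (NT.nd (NT.lf 0x0) (NT.lf 0x0))) (NT.nd (NT.nd (NT.lf 0x0) (NT.lf 0x4)) (NT.nd (NT.lf 0x0) (NT.lf 0x0))))) (NT.nd (NT.nd (NT.nd (NT.nd (NT.lf 0x0) (NT.lf 0x3)) (NT.nd (NT.lf 0x0) (NT.lf 0x0))) (NT.nd (NT.nd (NT.lf 0x0) (NT.lf 0x3)) (NT.nd (NT.lf 0x1) (NT.lf 0x0)))) (NT.nd (NT.nd (NT.nd (NT.lf 0x0) (NT.lf 0x2)) (NT.nd (NT.lf 0x0) (NT.lf 0x0))) (NT.nd (NT.nd (NT.lf 0x0) (NT.lf 0x5)) (NT.nd (NT.lf 0x2) (NT.lf 0x0)))))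
/-- the classes of roots -/
noncomputable def cl (r : ℕ) : ℕ := clT.get r
/-- the number of classes -/
def m : ℕ := 6
/-- the lists of the classes -/
def Ls : List (List ℕ) := [[14], [18, 13, 12], [15, 19, 16], [17, 20, 21], [22], [23]]
/-- the list of a class -/
def L (i : ℕ) : List ℕ := Ls.getD i []
/-- the simple classes -/
def Js : ℕ → List ℕ
  | 0 => [1]
  | 1 => [0, 2, 3]
  | _ => []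
/-- the permutation of the nodes -/
def rho : ℕ → ℕ
  | 0 => 2
  | 1 => 1
  | 2 => 3
  | 3 => 0
  | _ => 0
/-- the inverse permutation of the nodes -/
def rhoI : ℕ → ℕ
  | 0 => 3
  | 1 => 1
  | 2 => 0
  | 3 => 2
  | _ => 0
/-- the reduction of a class -/
def up : ℕ → ℕ
  | 0 => 0
  | 1 => 0
  | 2 => 0
  | 3 => 1
  | 4 => 1
  | 5 => 0
  | _ => 0
/-- the reduction of a class -/
def upc : ℕ → ℕ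
  | 0 => 0
  | 1 => 0
  | 2 => 1
  | 3 => 2
  | 4 => 0
  | 5 => 4
  | _ => 0

end Cfsg.Agent.H04.Tw.TD4
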