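import Cfsg.Agent.Lib.H04.Tw.TDefs
import Cfsg.Agent.Lib.H04.Chev.Tab.E6

/-! Generated tables of the twisted group of type E6. -/

set_option autoImplicit false
set_option maxRecDepth 100000

open Cfsg.Lie Cfsg.Agent.H04.Chev
open Cfsg.Agent.H04.Chev.TE6

namespace Cfsg.Agent.H04.Tw.TE6

/-- the graph map -/
noncomputable def G : GT := ⟨NT.nd (NT.nd (NT.nd (NT.nd (NT.nd (NT.nd (NT.nd (NT.lf 0x0) (NT.lf 0x36)) (NT.nd (NT.lf 0x20) (NT.lf 0x0))) (NT.nd (NT.nd (NT.lf 0x4) (NT.lf 0x0)) (NT.nd (NT.lf 0x32) (NT.lf 0x0)))) (NT.nd (NT.nd (NT.nd (NT.lf 0x8) (NT.lf 0x4d)) (NT.nd (NT.lf 0x2b) (NT.lf 0x0))) (NT.nd (NT.nd (NT.lf 0x18) (NT.lf 0x0)) (NT.nd (NT.lf 0x24) (NT.lf 0x0))))) (NT.nd (NT.nd (NT.nd (NT.nd (NT.lf 0x10) (NT.lf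 0x42)) (NT.nd (NT.lf 0x38) (NT.lf 0x0))) (NT.nd (NT.nd (NT.lf 0x14) (NT.lf 0x0)) (NT.nd (NT.lf 0x3e) (NT.lf 0x0)))) (NT.nd (NT.nd (NT.nd (NT.lf 0x1a) (NT.lf 0x4a)) (NT.nd (NT.lf 0x2c) (NT.lf 0x0))) (NT.nd (NT.nd (NT.lf 0x1f) (NT.lf 0x0)) (NT.nd (NT.lf 0x3c) (NT.lf 0x0)))))) (NT.nd (NT.nd (NT.nd (NT.nd (NT.nd (NT.lf 0x2) (NT.lf 0x44)) (NT.nd (NT.lf 0x1d) (NT.lf 0x0))) (NT.nd (NT.nd (NT.lf 0x12) (NT.lf 0x0)) (NT.nd (NT.lf 0x30) (NT.lf 0x0)))) (NT.nd (NT.nd (NT.nd (NT.lf 0x16) (NT.lf 0x4c)) (NT.nd (NT.lf 0x25) (NT.lf 0x0))) (NT.nd (NT.nd (NT.lf 0xc) (NT.lf 0x0)) (NT.nd (NT.lf 0x29) (NT.lf 0x0))))) (NT.nd (NT.nd (NT.nd (NT.nd (NT.lf 0x6) (NT.lf 0x46)) (NT.nd (NT.lf 0x39) (NT.lf 0x0))) (NT.nd (NT.nd (NT.lf 0xa) (NT.lf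 0x0)) (NT.nd (NT.lf 0x40) (NT.lf 0x0)))) (NT.nd (NT.nd (NT.nd (NT.lf 0x21) (NT.lf 0x0)) (NT.nd (NT.lf 0x2e) (NT.lf 0x0))) (NT.nd (NT.nd (NT.lf 0xd) (NT.lf 0x0)) (NT.nd (NT.lf 0x34) (NT.lf 0x0))))))) (NT.nd (NT.nd (NT.nd (NT.nd (NT.nd (NT.nd (NT.lf 0x1) (NT.lf 0x41)) (NT.nd (NT.lf 0xe) (NT.lf 0x0))) (NT.nd (NT.nd (NT.lf 0x7) (NT.lf 0x0)) (NT.nd (NT.lf 0x3d) (NT.lf 0x0)))) (NT.nd (NT.nd (NT.nd (NT.lf 0x13) (NT.lf 0x49)) (NT.nd (NT.lf 0x3a) (NT.lf 0x0))) (NT.nd (NT.nd (NT.lf 0x19) (NT.lf 0x0)) (NT.nd (NT.lf 0x26) (NT.lf 0x0))))) (NT.nd (NT.nd (NT.nd (NT.nd (NT.lf 0x3) (NT.lf 0x45)) (NT.nd (NT.lf 0x2a) (NT.lf 0x0))) (NT.nd (NT.nd (NT.lf 0x17) (NT.lf 0x0)) (NT.nd (NT.lf 0x35) (NT.lf 0x0)))) (NT.nd (NT.nd (NT.nd (NT.lf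 0x1e) (NT.lf 0x48)) (NT.nd (NT.lf 0x3b) (NT.lf 0x0))) (NT.nd (NT.nd (NT.lf 0x22) (NT.lf 0x0)) (NT.nd (NT.lf 0x31) (NT.lf 0x0)))))) (NT.nd (NT.nd (NT.nd (NT.nd (NT.nd (NT.lf 0x5) (NT.lf 0x37)) (NT.nd (NT.lf 0xf) (NT.lf 0x0))) (NT.nd (NT.nd (NT.lf 0x9) (NT.lf 0x0)) (NT.nd (NT.lf 0x33) (NT.lf 0x0)))) (NT.nd (NT.nd (NT.nd (NT.lf 0xb) (NT.lf 0x4b)) (NT.nd (NT.lf 0x28) (NT.lf 0x0))) (NT.nd (NT.nd (NT.lf 0x1b) (NT.lf 0x0)) (NT.nd (NT.lf 0x2d) (NT.lf 0x0))))) (NT.nd (NT.nd (NT.nd (NT.nd (NT.lf 0x11) (NT.lf 0x47)) (NT.nd (NT.lf 0x27) (NT.lf 0x0))) (NT.nd (NT.nd (NT.lf 0x15) (NT.lf 0x0)) (NT.nd (NT.lf 0x43) (NT.lf 0x0)))) (NT.nd (NT.nd (NT.nd (NT.lf 0x23) (NT.lf 0x0)) (NT.nd (NT.lf 0x2f) (NT.lf 0x0))) (NT.nd (NT.nd (NT.lf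 0x1c) (NT.lf 0x0)) (NT.nd (NT.lf 0x3f) (NT.lf 0x0))))))), NT.nd (NT.nd (NT.nd (NT.nd (NT.nd (NT.nd (NT.nd (NT.lf 0x0) (NT.lf 0x1)) (NT.nd (NT.lf 0x0) (NT.lf 0x0))) (NT.nd (NT.nd (NT.lf 0x1) (NT.lf 0x0)) (NT.nd (NT.lf 0x0) (NT.lf 0x0)))) (NT.nd (NT.nd (NT.nd (NT.lf 0x0) (NT.lf 0x0)) (NT.nd (NT.lf 0x1) (NT.lf 0x0))) (NT.nd (NT.nd (NT.lf 0x0) (NT.lf 0x0)) (NT.nd (NT.lf 0x0) (NT.lf 0x0))))) (NT.nd (NT.nd (NT.nd (NT.nd (NT.lf 0x1) (NT.lf 0x0)) (NT.nd (NT.lf 0x0) (NT.lf 0x0))) (NT.nd (NT.nd (NT.lf 0x0) (NT.lf 0x0)) (NT.nd (NT.lf 0x1) (NT.lf 0x0)))) (NT.nd (NT.nd (NT.nd (NT.lf 0x1) (NT.lf 0x0)) (NT.nd (NT.lf 0x0) (NT.lf 0x0))) (NT.nd (NT.nd (NT.lf 0x1) (NT.lf 0x0)) (NT.nd (NT.lf 0x0) (NT.lf 0x0)))))) (NT.nd (NT.nd (NT.nd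 (NT.nd (NT.nd (NT.lf 0x0) (NT.lf 0x0)) (NT.nd (NT.lf 0x0) (NT.lf 0x0))) (NT.nd (NT.nd (NT.lf 0x0) (NT.lf 0x0)) (NT.nd (NT.lf 0x0) (NT.lf 0x0)))) (NT.nd (NT.nd (NT.nd (NT.lf 0x1) (NT.lf 0x0)) (NT.nd (NT.lf 0x0) (NT.lf 0x0))) (NT.nd (NT.nd (NT.lf 0x1) (NT.lf 0x0)) (NT.nd (NT.lf 0x0) (NT.lf 0x0))))) (NT.nd (NT.nd (NT.nd (NT.nd (NT.lf 0x0) (NT.lf 0x0)) (NT.nd (NT.lf 0x1) (NT.lf 0x0))) (NT.nd (NT.nd (NT.lf 0x1) (NT.lf 0x0)) (NT.nd (NT.lf 0x1) (NT.lf 0x0)))) (NT.nd (NT.nd (NT.nd (NT.lf 0x1) (NT.lf 0x0)) (NT.nd (NT.lf 0x0) (NT.lf 0x0))) (NT.nd (NT.nd (NT.lf 0x0) (NT.lf 0x0)) (NT.nd (NT.lf 0x1) (NT.lf 0x0))))))) (NT.nd (NT.nd (NT.nd (NT.nd (NT.nd (NT.nd (NT.lf 0x0) (NT.lf 0x0)) (NT.nd (NT.lf 0x1) (NT.lf 0x0))) (NT.nd (NT.nd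 (NT.lf 0x1) (NT.lf 0x0)) (NT.nd (NT.lf 0x1) (NT.lf 0x0)))) (NT.nd (NT.nd (NT.nd (NT.lf 0x1) (NT.lf 0x0)) (NT.nd (NT.lf 0x0) (NT.lf 0x0))) (NT.nd (NT.nd (NT.lf 0x0) (NT.lf 0x0)) (NT.nd (NT.lf 0x1) (NT.lf 0x0))))) (NT.nd (NT.nd (NT.nd (NT.nd (NT.lf 0x0) (NT.lf 0x0)) (NT.nd (NT.lf 0x0) (NT.lf 0x0))) (NT.nd (NT.nd (NT.lf 0x0) (NT.lf 0x0)) (NT.nd (NT.lf 0x0) (NT.lf 0x0)))) (NT.nd (NT.nd (NT.nd (NT.lf 0x0) (NT.lf 0x0)) (NT.nd (NT.lf 0x1) (NT.lf 0x0))) (NT.nd (NT.nd (NT.lf 0x0) (NT.lf 0x0)) (NT.nd (NT.lf 0x1) (NT.lf 0x0)))))) (NT.nd (NT.nd (NT.nd (NT.nd (NT.nd (NT.lf 0x0) (NT.lf 0x1)) (NT.nd (NT.lf 0x0) (NT.lf 0x0))) (NT.nd (NT.nd (NT.lf 0x1) (NT.lf 0x0)) (NT.nd (NT.lf 0x0) (NT.lf 0x0)))) (NT.nd (NT.nd (NT.nd (NT.lf 0x0)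 (NT.lf 0x0)) (NT.nd (NT.lf 0x1) (NT.lf 0x0))) (NT.nd (NT.nd (NT.lf 0x0) (NT.lf 0x0)) (NT.nd (NT.lf 0x1) (NT.lf 0x0))))) (NT.nd (NT.nd (NT.nd (NT.nd (NT.lf 0x1) (NT.lf 0x0)) (NT.nd (NT.lf 0x0) (NT.lf 0x0))) (NT.nd (NT.nd (NT.lf 0x0) (NT.lf 0x0)) (NT.nd (NT.lf 0x1) (NT.lf 0x0)))) (NT.nd (NT.nd (NT.nd (NT.lf 0x0) (NT.lf 0x0)) (NT.nd (NT.lf 0x0) (NT.lf 0x0))) (NT.nd (NT.nd (NT.lf 0x1) (NT.lf 0x0)) (NT.nd (NT.lf 0x0) (NT.lf 0x0)))))))⟩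
/-- the classes of roots -/
noncomputable def clT : NT := NT.nd (NT.nd (NT.nd (NT.nd (NT.nd (NT.nd (NT.nd (NT.lf 0x0) (NT.lf 0x10)) (NT.nd (NT.lf 0x0) (NT.lf 0x0))) (NT.nd (NT.nd (NT.lf 0x0) (NT.lf 0x0)) (NT.nd (NT.lf 0x9) (NT.lf 0x0)))) (NT.nd (NT.nd (NT.nd (NT.lf 0x0) (NT.lf 0x0)) (NT.nd (NT.lf 0x5) (NT.lf 0x0))) (NT.nd (NT.nd (NT.lf 0x0) (NT.lf 0x0)) (NT.nd (NT.lf 0x2) (NT.lf 0x0))))) (NT.nd (NT.nd (NT.nd (NT.nd (NT.lf 0x0) (NT.lf 0x14)) (NT.nd (NT.lf 0x2) (NT.lf 0x0))) (NT.nd (NT.nd (NT.lf 0x0) (NT.lf 0x0)) (NT.nd (NT.lf 0xd) (NT.lf 0x0)))) (NT.nd (NT.nd (NT.nd (NT.lf 0x0) (NT.lf 0x0)) (NT.nd (NT.lf 0x8) (NT.lf 0x0))) (NT.nd (NT.nd (NT.lf 0x0) (NT.lf 0x0)) (NT.nd (NT.lf 0xf) (NT.lf 0x0)))))) (NT.nd (NT.nd (NT.nd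 (NT.nd (NT.nd (NT.lf 0x0) (NT.lf 0x14)) (NT.nd (NT.lf 0x0) (NT.lf 0x0))) (NT.nd (NT.nd (NT.lf 0x0) (NT.lf 0x0)) (NT.nd (NT.lf 0x9) (NT.lf 0x0)))) (NT.nd (NT.nd (NT.nd (NT.lf 0x0) (NT.lf 0x0)) (NT.nd (NT.lf 0x3) (NT.lf 0x0))) (NT.nd (NT.nd (NT.lf 0x0) (NT.lf 0x0)) (NT.nd (NT.lf 0x7) (NT.lf 0x0))))) (NT.nd (NT.nd (NT.nd (NT.nd (NT.lf 0x0) (NT.lf 0x16)) (NT.nd (NT.lf 0x4) (NT.lf 0x0))) (NT.nd (NT.nd (NT.lf 0x0) (NT.lf 0x0)) (NT.nd (NT.lf 0x10) (NT.lf 0x0)))) (NT.nd (NT.nd (NT.nd (NT.lf 0x0) (NT.lf 0x0)) (NT.nd (NT.lf 0x0) (NT.lf 0x0))) (NT.nd (NT.nd (NT.lf 0x0) (NT.lf 0x0)) (NT.nd (NT.lf 0xd) (NT.lf 0x0))))))) (NT.nd (NT.nd (NT.nd (NT.nd (NT.nd (NT.nd (NT.lf 0x0) (NT.lf 0x13)) (NT.nd (NT.lf 0x0) (NT.lf 0x0))) (NT.nd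 (NT.nd (NT.lf 0x0) (NT.lf 0x0)) (NT.nd (NT.lf 0xb) (NT.lf 0x0)))) (NT.nd (NT.nd (NT.nd (NT.lf 0x0) (NT.lf 0x0)) (NT.nd (NT.lf 0x7) (NT.lf 0x0))) (NT.nd (NT.nd (NT.lf 0x0) (NT.lf 0x0)) (NT.nd (NT.lf 0x4) (NT.lf 0x0))))) (NT.nd (NT.nd (NT.nd (NT.nd (NT.lf 0x0) (NT.lf 0x15)) (NT.nd (NT.lf 0x3) (NT.lf 0x0))) (NT.nd (NT.nd (NT.lf 0x0) (NT.lf 0x0)) (NT.nd (NT.lf 0xe) (NT.lf 0x0)))) (NT.nd (NT.nd (NT.nd (NT.lf 0x0) (NT.lf 0x0)) (NT.nd (NT.lf 0xa) (NT.lf 0x0))) (NT.nd (NT.nd (NT.lf 0x0) (NT.lf 0x0)) (NT.nd (NT.lf 0xb) (NT.lf 0x0)))))) (NT.nd (NT.nd (NT.nd (NT.nd (NT.nd (NT.lf 0x0) (NT.lf 0x12)) (NT.nd (NT.lf 0x0) (NT.lf 0x0))) (NT.nd (NT.nd (NT.lf 0x0) (NT.lf 0x0)) (NT.nd (NT.lf 0xc) (NT.lf 0x0)))) (NT.nd (NT.nd (NT.nd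 (NT.lf 0x0) (NT.lf 0x0)) (NT.nd (NT.lf 0x5) (NT.lf 0x0))) (NT.nd (NT.nd (NT.lf 0x0) (NT.lf 0x0)) (NT.nd (NT.lf 0xa) (NT.lf 0x0))))) (NT.nd (NT.nd (NT.nd (NT.nd (NT.lf 0x0) (NT.lf 0x17)) (NT.nd (NT.lf 0x1) (NT.lf 0x0))) (NT.nd (NT.nd (NT.lf 0x0) (NT.lf 0x0)) (NT.nd (NT.lf 0x12) (NT.lf 0x0)))) (NT.nd (NT.nd (NT.nd (NT.lf 0x0) (NT.lf 0x0)) (NT.nd (NT.lf 0x6) (NT.lf 0x0))) (NT.nd (NT.nd (NT.lf 0x0) (NT.lf 0x0)) (NT.nd (NT.lf 0x11) (NT.lf 0x0)))))))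
/-- the classes of roots -/
noncomputable def cl (r : ℕ) : ℕ := clT.get r
/-- the number of classes -/
def m : ℕ := 24
/-- the lists of the classes -/
def Ls : List (List ℕ) := [[46], [39], [56, 36], [42, 37], [38, 57], [40, 43], [47], [41, 58], [44], [48, 50], [45, 59], [49, 61], [51], [52, 62], [53], [60], [54, 64], [63], [55, 67], [65], [66, 68], [69], [70], [71]]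
/-- the list of a class -/
def L (i : ℕ) : List ℕ := Ls.getD i []
/-- the simple classes -/
def Js : ℕ → List ℕ
  | 0 => [1]
  | 1 => [3]
  | 2 => [0, 5]
  | 3 => [2, 4]
  | _ => []
/-- the permutation of the nodes -/
def rho : ℕ → ℕ
  | 0 => 5
  | 1 => 1
  | 2 => 4
  | 3 => 3
  | 4 => 2
  | 5 => 0
  | _ => 0
/-- the inverse permutation of the nodes -/
def rhoI : ℕ → ℕ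
  | 0 => 5
  | 1 => 1
  | 2 => 4
  | 3 => 3
  | 4 => 2
  | 5 => 0
  | _ => 0
/-- the reduction of a class -/
def up : ℕ → ℕ
  | 0 => 0
  | 1 => 0
  | 2 => 0
  | 3 => 0
  | 4 => 2
  | 5 => 1
  | 6 => 0
  | 7 => 1
  | 8 => 3
  | 9 => 0
  | 10 => 3
  | 11 => 0
  | 12 => 0
  | 13 => 0
  | 14 => 1
  | 15 => 2
  | 16 => 1
  | 17 => 0
  | 18 => 3
  | 19 => 1
  | 20 => 2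
  | 21 => 3
  | 22 => 1
  | 23 => 0
  | _ => 0
/-- the reduction of a class -/
def upc : ℕ → ℕ
  | 0 => 0
  | 1 => 0
  | 2 => 0
  | 3 => 0
  | 4 => 3
  | 5 => 3
  | 6 => 1
  | 7 => 4
  | 8 => 1
  | 9 => 5
  | 10 => 7
  | 11 => 7
  | 12 => 8
  | 13 => 10
  | 14 => 12
  | 15 => 8
  | 16 => 13
  | 17 => 15
  | 18 => 16
  | 19 => 17
  | 20 => 18
  | 21 => 19
  | 22 => 21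
  | 23 => 22
  | _ => 0

end Cfsg.Agent.H04.Tw.TE6
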